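import Cfsg.Agent.H319.PQ.Red2
import Cfsg.Agent.H861.RUtil
import Cfsg.Agent.H825.HT.Tools
import Cfsg.Agent.FastGrp
import Cfsg.Agent.Prune
set_option linter.all false
prune_inst 0x7f00000000000000000000000000000000000000000000000000000000000000000000000000000000000000000000000000000000000000000000000000000000000000000000000000000000000000003fffffffffffffffffffffffffffbeffbdffffffff
open scoped Cfsg.Agent.FastGrp

/-!
# S4884, the reduction: assembly (helper362)

* `CommP p r G` : some Sylow `p`-subgroup commutes with some Sylow `r`-subgroup;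
* `HypP` : the hypothesis of S4884 for the primes `p`, `r`; `HypP.quotient`;
* `step_A` : a normal subgroup `N ≠ 1` with `r ∤ |N|`: `CommP p r G` (from (C5) and (E));
-/

set_option autoImplicit false

open Cfsg Subgroup

namespace Cfsg.Agent.H362.PB84

open Cfsg.Agent.H319.PQ

universe u

/-- commuting Sylow `p`- and `r`-subgroups -/
def CommP (p r : ℕ) (G : Type u) [Group G] : Prop :=
  ∃ (P : Sylow p G) (R : Sylow r G), ∀ x ∈ (P : Subgroup G), ∀ y ∈ (R : Subgroup G), x * y = y * x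

theorem CommP.symm {p r : ℕ} {G : Type u} [Group G] (h : CommP p r G) : CommP r p G := by
  obtain ⟨P, R, h⟩ := h
  exact ⟨R, P, fun x hx y hy => (h y hy x hx).symm⟩

/-- the hypothesis of S4884 -/
def HypP (p r : ℕ) (Mp Mr : Ideal AlgInt) (G : Type u) [Group G] : Prop :=
  ∀ χ : IrrCharacter G, χ ∈ principalBlock Mp G → χ ∈ principalBlock Mr G → ¬ p ∣ charDegree (χ : G → ℂ) →
    ¬ r ∣ charDegree (χ : G → ℂ) → (χ : G → ℂ) = fun _ => (1 : ℂ)

theorem HypP.symm {p r : ℕ} {Mp Mr : Ideal AlgInt} {G : Type u} [Group G] (h : HypP p r Mp Mr G) :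
    HypP r p Mr Mp G := fun χ h1 h2 h3 h4 => h χ h2 h1 h4 h3

/-- the inflation of an irreducible character -/
def infl {G : Type u} [Group G] (N : Subgroup G) [N.Normal] (χ : IrrCharacter (G ⧸ N)) : IrrCharacter G :=
  ⟨(χ : G ⧸ N → ℂ) ∘ QuotientGroup.mk' N, Characters.Core.isIrr_comp _ (QuotientGroup.mk'_surjective N) χ.2⟩

theorem infl_mem {M : Ideal AlgInt} [M.IsPrime] {G : Type u} [Group G] [Finite G] (N : Subgroup G) [N.Normal]
    {χ : IrrCharacter (G ⧸ N)} (h : χ ∈ principalBlock M (G ⧸ N)) : infl N χ ∈ principalBlock M G :=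
  H133.PB.mem_principalBlock_comp _ (QuotientGroup.mk'_surjective N) h

theorem charDegree_infl {G : Type u} [Group G] (N : Subgroup G) [N.Normal] (χ : IrrCharacter (G ⧸ N)) :
    charDegree (infl N χ : G → ℂ) = charDegree (χ : G ⧸ N → ℂ) :=
  H596.charDegree_comp _ χ.2

theorem infl_eq_one {G : Type u} [Group G] (N : Subgroup G) [N.Normal] {χ : IrrCharacter (G ⧸ N)}
    (h : (infl N χ : G → ℂ) = fun _ => (1 : ℂ)) : (χ : G ⧸ N → ℂ) = fun _ => (1 : ℂ) := by
  funext y
  obtain ⟨x, rfl⟩ := QuotientGroup.mk'_surjective N y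
  exact congrFun h x

theorem infl_apply_of_mem {G : Type u} [Group G] (N : Subgroup G) [N.Normal] (χ : IrrCharacter (G ⧸ N)) {n : G}
    (hn : n ∈ N) : (infl N χ : G → ℂ) n = (infl N χ : G → ℂ) 1 := by
  show (χ : G ⧸ N → ℂ) (QuotientGroup.mk' N n) = (χ : G ⧸ N → ℂ) (QuotientGroup.mk' N 1)
  rw [map_one]
  exact congrArg (χ : G ⧸ N → ℂ) ((QuotientGroup.eq_one_iff n).2 hn)

theorem HypP.quotient {p r : ℕ} {Mp Mr : Ideal AlgInt} [Mp.IsPrime] [Mr.IsPrime] {G : Type u} [Group G] [Finite G]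
    (h : HypP p r Mp Mr G) (N : Subgroup G) [N.Normal] : HypP p r Mp Mr (G ⧸ N) := by
  intro χ h1 h2 h3 h4
  refine infl_eq_one N (h (infl N χ) (infl_mem N h1) (infl_mem N h2) ?_ ?_)
  · rwa [charDegree_infl]
  · rwa [charDegree_infl]

/-- `N C_G(P_N)` is normal (Frattini argument) -/
theorem normal_sup_centralizer {G : Type u} [Group G] [Finite G] {p : ℕ} [Fact p.Prime] (N : Subgroup G) [N.Normal]
    (P : Sylow p N) : (N ⊔ centralizer (((P : Subgroup N).map N.subtype : Subgroup G) : Set G)).Normal := by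
  set P' : Subgroup G := (P : Subgroup N).map N.subtype with hP'
  set C := centralizer (P' : Set G) with hC
  have h1 : normalizer (P' : Set G) ≤ normalizer ((N ⊔ C : Subgroup G) : Set G) := by
    intro g hg
    have hN : ∀ x ∈ N, g * x * g⁻¹ ∈ N := fun x hx => Subgroup.Normal.conj_mem inferInstance x hx g
    have hCC : ∀ g ∈ normalizer (P' : Set G), ∀ x ∈ C, g * x * g⁻¹ ∈ C := by
      intro g hg x hx
      rw [hC, mem_centralizer_iff] at hx ⊢
      intro y hy
      have h2 : g⁻¹ * y * g ∈ (P' : Set G) := (mem_normalizer_iff''.1 hg y).1 hy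
      have h3 := hx _ h2
      calc y * (g * x * g⁻¹) = g * ((g⁻¹ * y * g) * x) * g⁻¹ := by group
        _ = g * (x * (g⁻¹ * y * g)) * g⁻¹ := by rw [h3]
        _ = g * x * g⁻¹ * y := by group
    have h3 : ∀ g ∈ normalizer (P' : Set G), ∀ x ∈ N ⊔ C, g * x * g⁻¹ ∈ N ⊔ C := by
      intro g hg x hx
      obtain ⟨a, ha, b, hb, rfl⟩ := mem_sup_of_normal_left.1 hx
      have h4 : g * (a * b) * g⁻¹ = (g * a * g⁻¹) * (g * b * g⁻¹) := by group
      rw [h4]
      exact mul_mem (mem_sup_left (Subgroup.Normal.conj_mem inferInstance a ha g)) (mem_sup_right (hCC g hg b hb))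
    rw [mem_normalizer_iff]
    intro x
    constructor
    · exact h3 g hg x
    · intro hx
      have h4 := h3 g⁻¹ (inv_mem hg) _ hx
      have h5 : g⁻¹ * (g * x * g⁻¹) * g⁻¹⁻¹ = x := by group
      rwa [h5] at h4
  have h2 : N ≤ normalizer ((N ⊔ C : Subgroup G) : Set G) := le_sup_left.trans le_normalizer
  rw [← normalizer_eq_top_iff, eq_top_iff, ← Sylow.normalizer_sup_eq_top P]
  exact sup_le h1 h2

/-- (C5) -/
def C5 : Prop :=
  ∀ (p r : ℕ) [Fact p.Prime] [Fact r.Prime], p ≠ r → ∀ (G : Type u) [Group G] [Finite G] (N : Subgroup G) [N.Normal],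
    ¬ r ∣ Nat.card N → CommP p r (G ⧸ N) → ∀ (R : Sylow r G) (P : Sylow p N),
      (∀ x ∈ (P : Subgroup N), ∀ y ∈ (R : Subgroup G), (x : G) * y = y * x) → CommP p r G

/-- (C3) -/
def C3 : Prop :=
  ∀ (p r : ℕ) [Fact p.Prime] [Fact r.Prime], p ≠ r → ∀ (G : Type u) [Group G] [Finite G] (N₁ N₂ : Subgroup G)
    [N₁.Normal] [N₂.Normal], N₁ ⊓ N₂ = ⊥ → CommP p r (G ⧸ N₁) → CommP p r (G ⧸ N₂) → CommP p r G

/-- (E) for the prime `r` (`p` the other prime) -/
def EP (p r : ℕ) (Mr : Ideal AlgInt) : Prop :=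
  ∀ (X : Type u) [Group X] [Finite X], CommP p r X → r ∣ Nat.card X → ∃ χ : IrrCharacter X, χ ∈ principalBlock Mr X ∧
    (χ : X → ℂ) ≠ (fun _ => (1 : ℂ)) ∧ ¬ p ∣ charDegree (χ : X → ℂ) ∧ ¬ r ∣ charDegree (χ : X → ℂ)

/-- a Sylow `r`-subgroup in the centralizer: `N` normal, `r ∤ |N|`, `r ∤ |G : N C|` -/
theorem exists_sylow_le {G : Type u} [Group G] [Finite G] {r : ℕ} [Fact r.Prime] (N C : Subgroup G) [N.Normal]
    (hN : ¬ r ∣ Nat.card N) (hi : ¬ r ∣ (N ⊔ C).index) : ∃ R : Sylow r G, (R : Subgroup G) ≤ C := by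
  have hr : r.Prime := Fact.out
  -- the index of `C`
  have h1 : C.relIndex (N ⊔ C) ∣ Nat.card N := by
    have h2 := H861.RUtil.card_sup_mul C N
    have h3 : Nat.card C * C.relIndex (C ⊔ N) = Nat.card ↥(C ⊔ N) := by
      have h4 := H861.RUtil.card_inf_mul C (C ⊔ N)
      rwa [inf_eq_left.2 (le_sup_left : C ≤ C ⊔ N)] at h4
    rw [← h3, mul_assoc] at h2
    have h4 := Nat.eq_of_mul_eq_mul_left Nat.card_pos h2
    rw [sup_comm]
    exact Dvd.intro _ h4
  have h2 : ¬ r ∣ C.index := by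
    rw [← relIndex_mul_index (le_sup_right : C ≤ N ⊔ C)]
    intro h
    rcases hr.dvd_mul.1 h with h | h
    · exact hN (h.trans h1)
    · exact hi h
  obtain ⟨R₁⟩ : Nonempty (Sylow r C) := inferInstance
  have h3 : ¬ r ∣ ((R₁ : Subgroup C).map C.subtype).index := by
    rw [index_map_subtype]
    intro h
    rcases hr.dvd_mul.1 h with h | h
    · exact R₁.not_dvd_index h
    · exact h2 h
  refine ⟨(R₁.2.map C.subtype).toSylow h3, ?_⟩
  rw [IsPGroup.toSylow_coe]
  exact map_subtype_le _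

/-- **Steps 1, 2, 3a of the reduction**: a nontrivial normal subgroup `N` of order prime to `r`. -/
theorem step_A (hC5 : C5.{u}) {p r : ℕ} [Fact p.Prime] [Fact r.Prime] (hpr : p ≠ r) {Mp Mr : Ideal AlgInt}
    (hMp : IsPModular p Mp) (hMr : IsPModular r Mr) (hE : EP.{u} p r Mr) {G : Type u} [Group G] [Finite G]
    (hH : HypP p r Mp Mr G) (hmin : ∀ K : Subgroup G, [K.Normal] → K ≠ ⊥ → CommP p r (G ⧸ K))
    (N : Subgroup G) [N.Normal] (hN1 : N ≠ ⊥) (hN : ¬ r ∣ Nat.card N) : CommP p r G := by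
  have hp1 : Mp.IsPrime := hMp.2.1.isPrime
  have hr1 : Mr.IsPrime := hMr.2.1.isPrime
  obtain ⟨P⟩ : Nonempty (Sylow p N) := inferInstance
  set P' : Subgroup G := (P : Subgroup N).map N.subtype with hP'
  set C := centralizer (P' : Set G) with hC
  have hMn : (N ⊔ C).Normal := normal_sup_centralizer N P
  have hM1 : N ⊔ C ≠ ⊥ := fun h => hN1 (eq_bot_iff.2 (h ▸ le_sup_left))
  have hCM := hmin (N ⊔ C) hM1
  have hidx : ¬ r ∣ (N ⊔ C).index := by
    intro h
    obtain ⟨χ, h1, h2, h3, h4⟩ := hE (G ⧸ (N ⊔ C)) hCM h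
    apply h2
    apply infl_eq_one (N ⊔ C)
    refine hH _ ?_ (infl_mem _ h1) (by rwa [charDegree_infl]) (by rwa [charDegree_infl])
    -- a Sylow `p`-subgroup of `N C` above `P'`
    have hPle : P' ≤ N ⊔ C := (map_subtype_le _).trans le_sup_left
    have hPp : IsPGroup p (P'.subgroupOf (N ⊔ C)) := by
      have h5 : IsPGroup p P' := P.2.map _
      exact h5.comap_of_injective (N ⊔ C).subtype (subtype_injective _)
    obtain ⟨U, hU⟩ := hPp.exists_le_sylow
    refine Red2.mem_of_le_chKer hMp (N ⊔ C) U ?_ fun n hn => infl_apply_of_mem _ χ hn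
    refine le_trans (centralizer_le ?_) (le_sup_right : C ≤ N ⊔ C)
    intro x hx
    exact ⟨⟨x, hPle hx⟩, hU hx, rfl⟩
  obtain ⟨R, hR⟩ := exists_sylow_le N C hN hidx
  haveI := hMn
  have hCN : CommP p r (G ⧸ N) := hmin N hN1
  refine hC5 p r hpr G N hN hCN R P ?_
  intro x hx y hy
  have h1 := hR hy
  rw [hC, mem_centralizer_iff] at h1
  exact h1 x ⟨x, hx, rfl⟩

end Cfsg.Agent.H362.PB84
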